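import Mathlib.Algebra.Lie.UniversalEnveloping
import Mathlib.LinearAlgebra.Basis.Defs
import Mathlib.LinearAlgebra.Finsupp.LinearCombination
import Mathlib.Data.Multiset.Sort
import Mathlib.Data.List.Sort
import Mathlib.Algebra.Lie.OfAssociative

/-!
# The Poincaré–Birkhoff–Witt theorem

For a Lie algebra with a basis indexed by a linear order, the ordered monomials form a basis of the
universal enveloping algebra. The Lie algebra acts on the free module on multisets of indices.
-/

universe u v w

noncomputable section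

namespace Groth.Agent.PBW

attribute [local instance 100] LieRing.ofAssociativeRing

variable {k : Type u} [CommRing k] {L : Type v} [LieRing L] [LieAlgebra k L] {ι : Type w}
  [LinearOrder ι] (b : Module.Basis ι k L)

variable (k ι) in
/-- The space on which the Lie algebra acts. -/
abbrev Mo : Type max u w := Multiset ι →₀ k

/-- The basis vector of a multiset. -/
def z (s : Multiset ι) : Mo k ι := Finsupp.single s 1

variable (k) in
/-- The span of the multisets of cardinality at most `n`. -/
def F (n : ℕ) : Submodule k (Mo k ι) :=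
  Submodule.span k {m | ∃ s : Multiset ι, Multiset.card s ≤ n ∧ m = z s}

lemma z_mem_F {n : ℕ} {s : Multiset ι} (h : Multiset.card s ≤ n) : z (k := k) s ∈ F k n :=
  Submodule.subset_span ⟨s, h, rfl⟩

lemma F_mono {m n : ℕ} (h : m ≤ n) : F (ι := ι) k m ≤ F k n :=
  Submodule.span_mono fun _ ⟨s, hs, e⟩ => ⟨s, hs.trans h, e⟩

/-- `i` is at most every entry. -/
def Le (i : ι) (s : Multiset ι) : Prop := ∀ a ∈ s, i ≤ a

/-- A splitting off of a smallest entry below `i`. -/
def Split (i : ι) (s : Multiset ι) : Prop := ∃ j t, s = j ::ₘ t ∧ Le j t ∧ j < i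

lemma split_of_not_le {i : ι} {s : Multiset ι} (h : ¬ Le i s) : Split i s := by
  simp only [Le, not_forall, not_le] at h
  obtain ⟨a, ha, hai⟩ := h
  have hne : s.toFinset.Nonempty := ⟨a, Multiset.mem_toFinset.mpr ha⟩
  have hj : s.toFinset.min' hne ∈ s := Multiset.mem_toFinset.mp (s.toFinset.min'_mem hne)
  obtain ⟨t, ht⟩ := Multiset.exists_cons_of_mem hj
  refine ⟨_, t, ht, fun c hc => s.toFinset.min'_le c (Multiset.mem_toFinset.mpr ?_),
    (s.toFinset.min'_le a (Multiset.mem_toFinset.mpr ha)).trans_lt hai⟩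
  rw [ht]
  exact Multiset.mem_cons_of_mem hc

lemma not_split_of_le {i : ι} {s : Multiset ι} (h : Le i s) : ¬ Split i s := by
  rintro ⟨j, t, rfl, -, hj⟩
  exact (h j (Multiset.mem_cons_self j t)).not_gt hj

lemma cons_unique {j j' : ι} {t t' : Multiset ι} (h : j ::ₘ t = j' ::ₘ t') (hj : Le j t)
    (hj' : Le j' t') : j = j' ∧ t = t' := by
  have h1 : j ≤ j' := by
    rcases Multiset.mem_cons.mp (h ▸ Multiset.mem_cons_self j' t' : j' ∈ j ::ₘ t) with e | e
    · exact e.ge
    · exact hj _ e
  have h2 : j' ≤ j := by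
    rcases Multiset.mem_cons.mp (h ▸ Multiset.mem_cons_self j t : j ∈ j' ::ₘ t') with e | e
    · exact e.ge
    · exact hj' _ e
  obtain rfl := le_antisymm h1 h2
  exact ⟨rfl, (Multiset.cons_inj_right j).mp h⟩

open Classical in
/-- Approximations of the action of a basis vector. -/
def G : ℕ → ι → Mo k ι →ₗ[k] Mo k ι
  | 0, i => Finsupp.linearCombination k fun s => z (i ::ₘ s)
  | n + 1, i => Finsupp.linearCombination k fun s =>
      if h : Split i s then
        z (i ::ₘ s) + G n h.choose (G n i (z h.choose_spec.choose) - z (i ::ₘ h.choose_spec.choose))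
          + b.constr k (G n) ⁅b i, b h.choose⁆ (z h.choose_spec.choose)
      else z (i ::ₘ s)

lemma G_succ_of_le (n : ℕ) {i : ι} {s : Multiset ι} (h : Le i s) :
    G b (n + 1) i (z s) = z (i ::ₘ s) := by
  simp only [G, z, Finsupp.linearCombination_single, one_smul, dif_neg (not_split_of_le h)]

lemma G_succ_cons (n : ℕ) {i j : ι} {t : Multiset ι} (hjt : Le j t) (hji : j < i) :
    G b (n + 1) i (z (j ::ₘ t)) =
      z (i ::ₘ j ::ₘ t) + G b n j (G b n i (z t) - z (i ::ₘ t))
        + b.constr k (G b n) ⁅b i, b j⁆ (z t) := by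
  have h : Split i (j ::ₘ t) := ⟨j, t, rfl, hjt, hji⟩
  obtain ⟨e1, e2⟩ := cons_unique h.choose_spec.choose_spec.1 hjt h.choose_spec.choose_spec.2.1
  conv_lhs => rw [G, z, Finsupp.linearCombination_single, one_smul, dif_pos h]
  generalize h.choose_spec.choose = t' at e2 ⊢
  generalize h.choose = j' at e1 ⊢
  subst e1 e2
  rfl

lemma G_zero (i : ι) (s : Multiset ι) : G b 0 i (z s) = z (i ::ₘ s) := by
  simp only [G, z, Finsupp.linearCombination_single, one_smul]

lemma constr_apply' (f : ι → Mo k ι →ₗ[k] Mo k ι) (x : L) (v : Mo k ι) :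
    b.constr k f x v = (b.repr x).sum fun l a => a • f l v := by
  rw [Module.Basis.constr_apply, Finsupp.sum, LinearMap.sum_apply]
  rfl

lemma map_mem_of_gen {n m : ℕ} (f : Mo k ι →ₗ[k] Mo k ι)
    (h : ∀ s : Multiset ι, Multiset.card s ≤ n → f (z s) ∈ F k m) {v : Mo k ι}
    (hv : v ∈ F k n) : f v ∈ F k m := by
  induction hv using Submodule.span_induction with
  | mem v hv => obtain ⟨s, hs, rfl⟩ := hv; exact h s hs
  | zero => rw [map_zero]; exact zero_mem _
  | add x y _ _ hx hy => rw [map_add]; exact add_mem hx hy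
  | smul a x _ hx => rw [map_smul]; exact Submodule.smul_mem _ a hx

lemma eq_of_gen {N : Type*} [AddCommGroup N] [Module k N] {n : ℕ} (f g : Mo k ι →ₗ[k] N)
    (h : ∀ s : Multiset ι, Multiset.card s ≤ n → f (z s) = g (z s)) {v : Mo k ι}
    (hv : v ∈ F k n) : f v = g v :=
  LinearMap.eqOn_span (fun _ hw => by obtain ⟨s, hs, rfl⟩ := hw; exact h s hs) hv

/-- The approximations stabilise and are triangular. -/
lemma G_stable (n : ℕ) : ∀ (i : ι) (s : Multiset ι), Multiset.card s ≤ n →
    G b (n + 1) i (z s) = G b n i (z s) ∧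
      G b n i (z s) - z (i ::ₘ s) ∈ F k (Multiset.card s) := by
  induction n with
  | zero =>
    intro i s hs
    obtain rfl : s = 0 := Multiset.card_eq_zero.mp (Nat.le_zero.mp hs)
    have hle : Le i (0 : Multiset ι) := fun a ha => absurd ha (Multiset.notMem_zero a)
    rw [G_succ_of_le b _ hle, G_zero, sub_self]
    exact ⟨rfl, zero_mem _⟩
  | succ n ih =>
    intro i s hs
    by_cases hle : Le i s
    · rw [G_succ_of_le b _ hle, G_succ_of_le b _ hle, sub_self]
      exact ⟨rfl, zero_mem _⟩
    · obtain ⟨j, t, rfl, hjt, hji⟩ := split_of_not_le hle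
      rw [Multiset.card_cons] at hs ⊢
      have ht : Multiset.card t ≤ n := Nat.le_of_succ_le_succ hs
      obtain ⟨e1, hw⟩ := ih i t ht
      rw [G_succ_cons b (n + 1) hjt hji, G_succ_cons b n hjt hji, e1]
      have hstab : ∀ (l : ι) {v : Mo k ι}, v ∈ F k (Multiset.card t) →
          G b (n + 1) l v = G b n l v := fun l v hv =>
        eq_of_gen _ _ (fun s' hs' => (ih l s' (hs'.trans ht)).1) hv
      have hmem : ∀ (l : ι) {v : Mo k ι}, v ∈ F k (Multiset.card t) →
          G b n l v ∈ F k (Multiset.card t + 1) := fun l v hv => by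
        refine map_mem_of_gen (G b n l) (fun s' hs' => ?_) hv
        rw [← sub_add_cancel (G b n l (z s')) (z (l ::ₘ s'))]
        refine add_mem (F_mono ((Nat.le_succ _).trans (Nat.succ_le_succ hs'))
          (ih l s' (hs'.trans ht)).2) (z_mem_F ?_)
        rw [Multiset.card_cons]
        exact Nat.succ_le_succ hs'
      have hbr : ∀ x : L, b.constr k (G b (n + 1)) x (z t) = b.constr k (G b n) x (z t) ∧
          b.constr k (G b n) x (z t) ∈ F k (Multiset.card t + 1) := fun x => by
        rw [constr_apply', constr_apply']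
        exact ⟨Finset.sum_congr rfl fun l _ => congrArg (b.repr x l • ·) (ih l t ht).1,
          Submodule.sum_mem _ fun l _ => Submodule.smul_mem _ _ (hmem l (z_mem_F le_rfl))⟩
      refine ⟨by rw [hstab j hw, (hbr _).1], ?_⟩
      rw [add_assoc, add_sub_cancel_left]
      exact add_mem (hmem j hw) (hbr _).2

/-- The action of a basis vector. -/
def σ (i : ι) : Mo k ι →ₗ[k] Mo k ι :=
  Finsupp.linearCombination k fun s => G b (Multiset.card s) i (z s)

lemma σ_z (i : ι) (s : Multiset ι) : σ b i (z s) = G b (Multiset.card s) i (z s) := by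
  rw [σ, z, Finsupp.linearCombination_single, one_smul]
  rfl

lemma G_eq_σ {n : ℕ} (i : ι) {s : Multiset ι} (h : Multiset.card s ≤ n) :
    G b n i (z s) = σ b i (z s) := by
  induction n, h using Nat.le_induction with
  | base => exact (σ_z b i s).symm
  | succ n hn ih => rw [(G_stable b n i s hn).1, ih]

lemma σ_of_le {i : ι} {s : Multiset ι} (h : Le i s) : σ b i (z s) = z (i ::ₘ s) := by
  rw [← G_eq_σ b i (Nat.le_succ (Multiset.card s)), G_succ_of_le b _ h]

lemma σ_sub_mem (i : ι) (s : Multiset ι) :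
    σ b i (z s) - z (i ::ₘ s) ∈ F k (Multiset.card s) := by
  rw [σ_z]
  exact (G_stable b _ i s le_rfl).2

/-- The action of the Lie algebra. -/
def A : L →ₗ[k] Mo k ι →ₗ[k] Mo k ι := b.constr k (σ b)

lemma A_basis (i : ι) : A b (b i) = σ b i := b.constr_basis k _ i

lemma σ_cons {i j : ι} {t : Multiset ι} (hjt : Le j t) (hji : j < i) :
    σ b i (z (j ::ₘ t)) = z (i ::ₘ j ::ₘ t) + σ b j (σ b i (z t) - z (i ::ₘ t))
      + A b ⁅b i, b j⁆ (z t) := by
  rw [σ_z, Multiset.card_cons, G_succ_cons b _ hjt hji, G_eq_σ b i le_rfl]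
  congr 1
  · congr 1
    exact eq_of_gen _ _ (fun s' hs' => G_eq_σ b j hs') (σ_sub_mem b i t)
  · rw [A, constr_apply', constr_apply']
    exact Finset.sum_congr rfl fun l _ => congrArg (b.repr _ l • ·) (G_eq_σ b l le_rfl)

/-- The commutation relation on a vector. -/
def Rel (x y : L) (v : Mo k ι) : Prop := A b x (A b y v) - A b y (A b x v) = A b ⁅x, y⁆ v

lemma rel_symm {x y : L} {v : Mo k ι} (h : Rel b x y v) : Rel b y x v := by
  unfold Rel at h ⊢
  rw [← lie_skew y x, map_neg, LinearMap.neg_apply, ← h, neg_sub]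

lemma rel_right {x : L} {v : Mo k ι} (h : ∀ j, Rel b x (b j) v) (y : L) : Rel b x y v := by
  unfold Rel at h ⊢
  have H : (A b x).comp ((LinearMap.applyₗ v).comp (A b)) =
      (LinearMap.applyₗ (A b x v)).comp (A b) +
        ((LinearMap.applyₗ v).comp (A b)).comp (LieAlgebra.ad k L x) :=
    b.ext fun j => (sub_eq_iff_eq_add.mp (h j)).trans (add_comm _ _)
  rw [sub_eq_iff_eq_add]
  exact (LinearMap.congr_fun H y).trans (add_comm _ _)

lemma rel_all {v : Mo k ι} (h : ∀ i j, Rel b (b i) (b j) v) (x y : L) : Rel b x y v :=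
  rel_right b (fun j => rel_symm b (rel_right b (h j) x)) y

lemma rel_of_mem {n : ℕ}
    (h : ∀ s : Multiset ι, Multiset.card s ≤ n → ∀ i j, Rel b (b i) (b j) (z s))
    (x y : L) {v : Mo k ι} (hv : v ∈ F k n) : Rel b x y v :=
  eq_of_gen ((A b x).comp (A b y) - (A b y).comp (A b x)) (A b ⁅x, y⁆)
    (fun s hs => rel_all b (h s hs) x y) hv

lemma rel_first {i j : ι} {s : Multiset ι} (hji : j < i) (hjs : Le j s) :
    Rel b (b i) (b j) (z s) := by
  unfold Rel
  rw [A_basis, A_basis, σ_of_le b hjs, σ_cons b hjs hji, map_sub]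
  have hle : Le j (i ::ₘ s) := fun a ha => by
    rcases Multiset.mem_cons.mp ha with rfl | ha
    · exact hji.le
    · exact hjs a ha
  rw [σ_of_le b hle, Multiset.cons_swap i j]
  abel

/-- The action is a representation. -/
theorem rel_z : ∀ (n : ℕ) (s : Multiset ι), Multiset.card s ≤ n → ∀ i j, Rel b (b i) (b j) (z s) := by
  intro n
  induction n with
  | zero =>
    intro s hs i j
    obtain rfl : s = 0 := Multiset.card_eq_zero.mp (Nat.le_zero.mp hs)
    rcases lt_trichotomy j i with h | h | h
    · exact rel_first b h fun a ha => absurd ha (Multiset.notMem_zero a)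
    · subst h; unfold Rel; rw [sub_self, lie_self, map_zero, LinearMap.zero_apply]
    · exact rel_symm b (rel_first b h fun a ha => absurd ha (Multiset.notMem_zero a))
  | succ n ih =>
    have key : ∀ (s : Multiset ι), Multiset.card s ≤ n + 1 → ∀ i j, j < i →
        Rel b (b i) (b j) (z s) := by
      intro s hs i j hji
      by_cases hjs : Le j s
      · exact rel_first b hji hjs
      obtain ⟨l, t, rfl, hlt, hlj⟩ := split_of_not_le hjs
      rw [Multiset.card_cons] at hs
      have ht : Multiset.card t ≤ n := Nat.le_of_succ_le_succ hs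
      have hT : ∀ x y, Rel b x y (z t) := fun x y => rel_all b (ih t ht) x y
      have hup : ∀ p q : ι, l < p → l < q → Rel b (b q) (b l) (A b (b p) (z t)) := by
        intro p q hlp hlq
        rw [A_basis, ← sub_add_cancel (σ b p (z t)) (z (p ::ₘ t))]
        have h1 : Rel b (b q) (b l) (σ b p (z t) - z (p ::ₘ t)) :=
          rel_of_mem b ih _ _ (F_mono ht (σ_sub_mem b p t))
        have h2 : Rel b (b q) (b l) (z (p ::ₘ t)) := rel_first b hlq fun a ha => by
          rcases Multiset.mem_cons.mp ha with rfl | ha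
          · exact hlp.le
          · exact hlt a ha
        unfold Rel at h1 h2 ⊢
        simp only [map_add, ← h1, ← h2]
        abel
      have hz : z (l ::ₘ t) = A b (b l) (z t) := by rw [A_basis, σ_of_le b hlt]
      rw [hz]
      have r1 := hT (b j) (b l)
      have r2 := hT (b i) (b l)
      have r3 := hT (b i) (b j)
      have r4 := hup j i hlj (hlj.trans hji)
      have r5 := hup i j (hlj.trans hji) hlj
      have r6 := hT ⁅b i, b l⁆ (b j)
      have r7 := hT (b i) ⁅b j, b l⁆
      have r8 := hT (b l) ⁅b i, b j⁆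
      have jac : A b (⁅b l, ⁅b i, b j⁆⁆ + ⁅⁅b i, b l⁆, b j⁆ + ⁅b i, ⁅b j, b l⁆⁆) (z t) = 0 := by
        have e : ⁅b l, ⁅b i, b j⁆⁆ + ⁅⁅b i, b l⁆, b j⁆ + ⁅b i, ⁅b j, b l⁆⁆ = 0 := by
          rw [← lie_skew ⁅b i, b l⁆ (b j), ← lie_skew (b i) (b l), lie_neg, neg_neg,
            add_assoc, add_comm ⁅b j, ⁅b l, b i⁆⁆, ← add_assoc]
          exact lie_jacobi (b l) (b i) (b j)
        rw [e, map_zero, LinearMap.zero_apply]
      unfold Rel at r1 r2 r3 r4 r5 r6 r7 r8 ⊢
      rw [map_add, map_add, LinearMap.add_apply, LinearMap.add_apply, ← r6, ← r7, ← r8] at jac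
      rw [sub_eq_iff_eq_add] at r1 r2 r3 r4 r5
      rw [r1, r2, map_add, map_add, r4, r5, ← sub_eq_zero]
      have r3' : A b (b l) (A b (b i) (A b (b j) (z t))) - A b (b l) (A b (b j) (A b (b i) (z t))) =
          A b (b l) (A b ⁅b i, b j⁆ (z t)) := by
        rw [r3, map_add, add_sub_cancel_right]
      rw [← r3'] at jac
      rw [← jac]
      abel
    intro s hs i j
    rcases lt_trichotomy j i with h | h | h
    · exact key s hs i j h
    · subst h; unfold Rel; rw [sub_self, lie_self, map_zero, LinearMap.zero_apply]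
    · exact rel_symm b (key s hs j i h)

/-- The action as a morphism of Lie algebras. -/
def act : L →ₗ⁅k⁆ Module.End k (Mo k ι) :=
  { A b with
    map_lie' := fun {x y} => by
      refine Finsupp.lhom_ext fun s a => ?_
      have h : Rel b x y (z s) := rel_all b (rel_z b _ s le_rfl) x y
      rw [show Finsupp.single s a = a • z (k := k) s by simp [z, Finsupp.smul_single],
        map_smul, map_smul]
      exact congrArg (a • ·) h.symm }

/-- The ordered monomial. -/
def mon (s : Multiset ι) : UniversalEnvelopingAlgebra k L :=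
  ((s.sort (· ≤ ·)).map fun i => UniversalEnvelopingAlgebra.ι k (b i)).prod

lemma mon_zero : mon b 0 = 1 := by simp [mon]

lemma mon_cons {j : ι} {t : Multiset ι} (h : Le j t) :
    mon b (j ::ₘ t) = UniversalEnvelopingAlgebra.ι k (b j) * mon b t := by
  rw [mon, mon, Multiset.sort_cons (r := (· ≤ ·)) j t h, List.map_cons, List.prod_cons]

/-- The map sending a multiset to its monomial. -/
def Ψ : Mo k ι →ₗ[k] UniversalEnvelopingAlgebra k L := Finsupp.linearCombination k (mon b)

lemma Ψ_z (s : Multiset ι) : Ψ b (z s) = mon b s := by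
  rw [Ψ, z, Finsupp.linearCombination_single, one_smul]

lemma ι_bracket_add (x y : L) : UniversalEnvelopingAlgebra.ι k ⁅x, y⁆ +
    UniversalEnvelopingAlgebra.ι k y * UniversalEnvelopingAlgebra.ι k x =
      UniversalEnvelopingAlgebra.ι k x * UniversalEnvelopingAlgebra.ι k y := by
  rw [LieHom.map_lie, LieRing.of_associative_ring_bracket, sub_add_cancel]

lemma Ψ_σ : ∀ (n : ℕ) (s : Multiset ι), Multiset.card s ≤ n → ∀ i,
    Ψ b (σ b i (z s)) = UniversalEnvelopingAlgebra.ι k (b i) * mon b s := by
  intro n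
  induction n with
  | zero =>
    intro s hs i
    obtain rfl : s = 0 := Multiset.card_eq_zero.mp (Nat.le_zero.mp hs)
    have hle : Le i (0 : Multiset ι) := fun a ha => absurd ha (Multiset.notMem_zero a)
    rw [σ_of_le b hle, Ψ_z, mon_cons b hle]
  | succ n ih =>
    intro s hs i
    by_cases hle : Le i s
    · rw [σ_of_le b hle, Ψ_z, mon_cons b hle]
    obtain ⟨j, t, rfl, hjt, hji⟩ := split_of_not_le hle
    rw [Multiset.card_cons] at hs
    have ht : Multiset.card t ≤ n := Nat.le_of_succ_le_succ hs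
    have hlin : ∀ (l : ι) {v : Mo k ι}, v ∈ F k n →
        Ψ b (σ b l v) = UniversalEnvelopingAlgebra.ι k (b l) * Ψ b v := fun l v hv =>
      eq_of_gen ((Ψ b).comp (σ b l))
        ((LinearMap.mulLeft k (UniversalEnvelopingAlgebra.ι k (b l))).comp (Ψ b))
        (fun s' hs' => (ih s' hs' l).trans (congrArg _ (Ψ_z b s').symm)) hv
    have hA : ∀ x : L, Ψ b (A b x (z t)) = UniversalEnvelopingAlgebra.ι k x * mon b t := fun x => by
      suffices H : ((Ψ b).comp ((LinearMap.applyₗ (z t)).comp (A b))) =
          (LinearMap.mulRight k (mon b t)).comp (UniversalEnvelopingAlgebra.ι k :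
            L →ₗ⁅k⁆ UniversalEnvelopingAlgebra k L).toLinearMap from LinearMap.congr_fun H x
      refine b.ext fun l => ?_
      show Ψ b (A b (b l) (z t)) = _
      rw [A_basis, ih t ht l]
      rfl
    have hji' : Le j (i ::ₘ t) := fun a ha => by
      rcases Multiset.mem_cons.mp ha with rfl | ha
      · exact hji.le
      · exact hjt a ha
    rw [σ_cons b hjt hji, map_add, map_add, hlin j (F_mono ht (σ_sub_mem b i t)), map_sub,
      ih t ht i, hA, Ψ_z, Ψ_z, Multiset.cons_swap, mon_cons b hji', mon_cons b hjt, mul_sub,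
      add_sub_cancel, ← mul_assoc, ← mul_assoc, ← add_mul]
    congr 1
    rw [add_comm]
    exact ι_bracket_add (b i) (b j)

lemma Ψ_act (x : L) (v : Mo k ι) :
    Ψ b (act b x v) = UniversalEnvelopingAlgebra.ι k x * Ψ b v := by
  suffices H : (LinearMap.llcomp k _ _ _ (Ψ b)).comp (A b) =
      ((LinearMap.mul k (UniversalEnvelopingAlgebra k L)).compl₂ (Ψ b)).comp
        (UniversalEnvelopingAlgebra.ι k : L →ₗ⁅k⁆ UniversalEnvelopingAlgebra k L).toLinearMap from
    LinearMap.congr_fun (LinearMap.congr_fun H x) v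
  refine b.ext fun l => Finsupp.lhom_ext fun s a => ?_
  rw [show Finsupp.single s a = a • z (k := k) s by simp [z, Finsupp.smul_single],
    map_smul, map_smul]
  refine congrArg (a • ·) ?_
  show Ψ b (A b (b l) (z s)) = UniversalEnvelopingAlgebra.ι k (b l) * Ψ b (z s)
  rw [A_basis, Ψ_σ b _ s le_rfl, Ψ_z]

lemma Ψ_lift (u : UniversalEnvelopingAlgebra k L) (v : Mo k ι) :
    Ψ b (UniversalEnvelopingAlgebra.lift k (act b) u v) = u * Ψ b v := by
  have hsurj : Function.Surjective (UniversalEnvelopingAlgebra.mkAlgHom k L) :=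
    fun x => RingCon.mkₐ_surjective _ x
  obtain ⟨t, rfl⟩ := hsurj u
  induction t using TensorAlgebra.induction generalizing v with
  | algebraMap r =>
    rw [AlgHom.commutes, AlgHom.commutes, Algebra.algebraMap_eq_smul_one,
      Algebra.algebraMap_eq_smul_one, smul_mul_assoc, one_mul]
    exact map_smul (Ψ b) r v
  | ι x =>
    rw [UniversalEnvelopingAlgebra.lift_ι_apply']
    exact Ψ_act b x v
  | mul p q hp hq =>
    rw [map_mul, map_mul, mul_assoc, ← hq v, ← hp]
    rfl
  | add p q hp hq =>
    rw [map_add, add_mul, ← hp v, ← hq v, ← map_add (Ψ b)]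
    exact congrArg (Ψ b) (LinearMap.congr_fun (map_add _ _ _) v)

/-- Evaluation at the empty monomial. -/
def Φ : UniversalEnvelopingAlgebra k L →ₗ[k] Mo k ι :=
  (LinearMap.applyₗ (z (0 : Multiset ι))).comp
    (UniversalEnvelopingAlgebra.lift k (act b)).toLinearMap

lemma lift_mon : ∀ (n : ℕ) (s : Multiset ι), Multiset.card s = n →
    UniversalEnvelopingAlgebra.lift k (act b) (mon b s) (z 0) = z s := by
  intro n
  induction n with
  | zero =>
    intro s hs
    obtain rfl := Multiset.card_eq_zero.mp hs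
    rw [mon_zero, map_one]
    rfl
  | succ n ih =>
    intro s hs
    have hne : s.toFinset.Nonempty := by
      obtain ⟨a, ha⟩ := Multiset.card_pos_iff_exists_mem.mp (by omega : 0 < Multiset.card s)
      exact ⟨a, Multiset.mem_toFinset.mpr ha⟩
    obtain ⟨t, ht⟩ := Multiset.exists_cons_of_mem
      (Multiset.mem_toFinset.mp (s.toFinset.min'_mem hne))
    have hle : Le (s.toFinset.min' hne) t := fun c hc => by
      refine s.toFinset.min'_le c (Multiset.mem_toFinset.mpr ?_)
      rw [ht]
      exact Multiset.mem_cons_of_mem hc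
    generalize s.toFinset.min' hne = j at ht hle
    subst ht
    rw [Multiset.card_cons, add_left_inj] at hs
    rw [mon_cons b hle, map_mul, UniversalEnvelopingAlgebra.lift_ι_apply, Module.End.mul_apply,
      ih t hs]
    show A b (b j) (z t) = _
    rw [A_basis, σ_of_le b hle]

/-- The monomial map is a linear equivalence. -/
def equiv : Mo k ι ≃ₗ[k] UniversalEnvelopingAlgebra k L :=
  LinearEquiv.ofLinear (Ψ b) (Φ b)
    (LinearMap.ext fun u => by
      show Ψ b (UniversalEnvelopingAlgebra.lift k (act b) u (z 0)) = u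
      rw [Ψ_lift, Ψ_z, mon_zero, mul_one])
    (Finsupp.lhom_ext fun s a => by
      rw [show Finsupp.single s a = a • z (k := k) s by simp [z, Finsupp.smul_single],
        map_smul, map_smul]
      refine congrArg (a • ·) ?_
      show UniversalEnvelopingAlgebra.lift k (act b) (Ψ b (z s)) (z 0) = z s
      rw [Ψ_z, lift_mon b _ s rfl])

lemma sort_coe {l : List ι} (h : l.SortedLE) : (l : Multiset ι).sort (· ≤ ·) = l :=
  (Multiset.coe_eq_coe.mp (Multiset.sort_eq (l : Multiset ι) (· ≤ ·))).eq_of_pairwise'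
    (Multiset.pairwise_sort _ _) (List.sortedLE_iff_pairwise.mp h)

/-- Multisets as sorted lists. -/
def sortedEquiv : Multiset ι ≃ {l : List ι // l.SortedLE} where
  toFun s := ⟨s.sort (· ≤ ·), List.sortedLE_iff_pairwise.mpr (Multiset.pairwise_sort s _)⟩
  invFun l := (l.1 : Multiset ι)
  left_inv s := Multiset.sort_eq s _
  right_inv l := Subtype.ext (sort_coe l.2)

/-- The Poincaré–Birkhoff–Witt basis. -/
def basis : Module.Basis {l : List ι // l.SortedLE} k (UniversalEnvelopingAlgebra k L) :=
  Module.Basis.reindex ⟨(equiv b).symm⟩ sortedEquiv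

theorem basis_apply (l : {l : List ι // l.SortedLE}) :
    basis b l = (l.1.map fun i => UniversalEnvelopingAlgebra.ι k (b i)).prod := by
  rw [basis, Module.Basis.reindex_apply]
  show Ψ b (z (l.1 : Multiset ι)) = _
  rw [Ψ_z, mon, sort_coe l.2]

end Groth.Agent.PBW

end
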